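import Cfsg.Agent.Lib.Helper6.EqD.Defs
import Cfsg.Agent.Lib.Helper2.BGMain

/-! # Invariant decompositions for operators of prime order (helper6, for S5958) -/

set_option autoImplicit false

namespace Cfsg.Agent.Lib.Helper6.EqD

open Module Polynomial Cfsg.Agent.Lib.Helper2.BG

section basic
variable {F V : Type*} [Field F] [AddCommGroup V] [Module F V]

lemma injective_of_pow_eq_one {y : Module.End F V} {r : ℕ} (hr : 0 < r) (hy : y ^ r = 1) :
    Function.Injective y := by
  intro u v huv
  have h : ∀ w, (y ^ (r - 1)) (y w) = w := by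
    intro w
    have : (y ^ (r - 1) * y) w = w := by
      rw [← pow_succ, Nat.sub_add_cancel hr, hy]; rfl
    exact this
  rw [← h u, ← h v, huv]

lemma map_eq_of_inv [FiniteDimensional F V] {y : Module.End F V} (hinj : Function.Injective y)
    {W : Submodule F V} (hW : Inv y W) : W.map y = W := by
  apply Submodule.eq_of_le_of_finrank_eq ((inv_iff_map_le y W).mp hW)
  exact (Submodule.equivMapOfInjective y hinj W).symm.finrank_eq

lemma inv_of_map_eq {y : Module.End F V} {W : Submodule F V} (h : W.map y = W) : Inv y W :=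
  (inv_iff_map_le y W).mpr h.le

/-- transfer of an invariant subspace of the restriction -/
lemma inv_map_subtype' {y : Module.End F V} {M : Submodule F V} (hM : ∀ x ∈ M, y x ∈ M)
    {W' : Submodule F ↥M} (hW' : Inv (y.restrict hM) W') : Inv y (W'.map M.subtype) := by
  rintro _ ⟨w, hw, rfl⟩
  refine ⟨(y.restrict hM) w, hW' w hw, ?_⟩
  simp [LinearMap.restrict_apply]

end basic

section finite
variable {F V : Type*} [Field F] [Fintype F] [AddCommGroup V] [Module F V] [FiniteDimensional F V]

lemma isSemisimple_of_pow_eq_one {p : ℕ} [Fact p.Prime] [CharP F p] {r : ℕ} [Fact r.Prime]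
    (hrp : r ≠ p) (y : Module.End F V) (hy : y ^ r = 1) : y.IsSemisimple := by
  have hrF : (r : F) ≠ 0 := natCast_ne_zero_of_ne (p := p) hrp
  have hpoly : aeval y (X ^ r - 1 : F[X]) = 0 := by
    rw [map_sub, map_pow, aeval_X, map_one, hy, sub_self]
  exact Module.End.isSemisimple_of_squarefree_aeval_eq_zero (squarefree_X_pow_sub_one hrF) hpoly

/-- invariant subspaces of prescribed dimension inside an invariant subspace -/
theorem exists_inv_le_of_pow_eq_one {p : ℕ} [Fact p.Prime] [CharP F p] {r : ℕ} [Fact r.Prime]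
    (hrp : r ≠ p) (y : Module.End F V) (hy : y ^ r = 1) {M : Submodule F V} (hM : Inv y M) (m : ℕ)
    (hm : m ≤ finrank F M)
    (hmod : m % orderOf ((Fintype.card F : ℕ) : ZMod r) ≤
      finrank F M % orderOf ((Fintype.card F : ℕ) : ZMod r)) :
    ∃ W : Submodule F V, W ≤ M ∧ finrank F W = m ∧ Inv y W := by
  replace hM : ∀ x ∈ M, y x ∈ M := hM
  have hyM : (y.restrict hM) ^ r = 1 := by
    rw [Module.End.pow_restrict]
    apply LinearMap.ext
    intro w
    apply Subtype.ext
    simp [LinearMap.restrict_apply, hy]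
  obtain ⟨W', hW'd, hW'⟩ := exists_inv_of_pow_eq_one (p := p) hrp (y.restrict hM) hyM m hm hmod
  refine ⟨W'.map M.subtype, Submodule.map_subtype_le M W', ?_, inv_map_subtype' hM hW'⟩
  rw [Submodule.finrank_map_subtype_eq, hW'd]

/-- FO-6: decompositions into invariant subspaces -/
theorem exists_dec_invariant {p : ℕ} [Fact p.Prime] [CharP F p] {r : ℕ} [Fact r.Prime] (hrp : r ≠ p)
    (y : Module.End F V) (hy : y ^ r = 1) (a : ℕ) (ha : 1 ≤ a) :
    ∀ (t' : ℕ) (M : Submodule F V), Inv y M → finrank F M = a * t' →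
      (a * t') % orderOf ((Fintype.card F : ℕ) : ZMod r) =
        t' * (a % orderOf ((Fintype.card F : ℕ) : ZMod r)) →
      ∃ D : Fin t' → Submodule F V, Dec y a M D 1 := by
  have hr := (Fact.out : r.Prime)
  have hcpos : 0 < orderOf ((Fintype.card F : ℕ) : ZMod r) := orderOf_pos_of_ne (p := p) hrp
  set c := orderOf ((Fintype.card F : ℕ) : ZMod r) with hc
  have hss := isSemisimple_of_pow_eq_one (p := p) hrp y hy
  have hinj := injective_of_pow_eq_one hr.pos hy
  intro t'
  induction t' with
  | zero =>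
    intro M _ hMd _
    rw [mul_zero, Submodule.finrank_eq_zero] at hMd
    subst hMd
    exact ⟨fun i => i.elim0, Dec.empty a _ _⟩
  | succ t' ih =>
    intro M hM hMd hmod
    have hmod1 : a % c ≤ finrank F M % c := by
      rw [hMd, hmod]
      exact Nat.le_mul_of_pos_left _ (Nat.succ_pos t')
    have hale : a ≤ finrank F M := by
      rw [hMd]; exact Nat.le_mul_of_pos_right _ (Nat.succ_pos t')
    obtain ⟨W, hWM, hWd, hW⟩ := exists_inv_le_of_pow_eq_one (p := p) hrp y hy hM a hale hmod1
    obtain ⟨T', hT', hT'M, hdisj, hsup, hfr⟩ := exists_inv_compl_in hss hW hM hWM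
    have hT'd : finrank F T' = a * t' := by
      rw [hMd, hWd, Nat.mul_succ] at hfr
      omega
    have hmod' : (a * t') % c = t' * (a % c) := by
      have h1 : (a * t') % c = ((a % c) * t') % c :=
        ((Nat.mod_modEq a c).mul_right t').symm
      have h2 : (a * (t' + 1)) % c < c := Nat.mod_lt _ hcpos
      rw [hmod] at h2
      rw [h1, Nat.mod_eq_of_lt, mul_comm]
      calc (a % c) * t' ≤ (t' + 1) * (a % c) := by
            rw [mul_comm]; exact Nat.mul_le_mul_right _ (Nat.le_succ t')
        _ < c := h2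
    obtain ⟨D', hD'⟩ := ih T' hT' hT'd hmod'
    have hsingle : Dec y a W (fun _ : Unit => W) 1 := hWd ▸ Dec.single (map_eq_of_inv hinj hW)
    have hglue := hsingle.glue hD' hdisj
    rw [hsup] at hglue
    have hcard : Fintype.card (Unit ⊕ Fin t') = t' + 1 := by
      simp; omega
    let e : Unit ⊕ Fin t' ≃ Fin (t' + 1) := Fintype.equivFinOfCardEq hcard
    have hre := hglue.reindex e
    have hperm : e.permCongr (Equiv.sumCongr (1 : Equiv.Perm Unit) (1 : Equiv.Perm (Fin t'))) = 1 := by
      ext k
      simp [Equiv.permCongr_apply]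
    rw [hperm] at hre
    exact ⟨_, hre⟩

/-- dimension of an invariant subspace -/
theorem finrank_inv_eq {p : ℕ} [Fact p.Prime] [CharP F p] {r : ℕ} [Fact r.Prime] (hrp : r ≠ p)
    (y : Module.End F V) (hy : y ^ r = 1) {W : Submodule F V} (hW : Inv y W) :
    ∃ s : ℕ, finrank F W = finrank F ↥(W ⊓ LinearMap.ker (y - 1)) +
      s * orderOf ((Fintype.card F : ℕ) : ZMod r) := by
  have hrF : (r : F) ≠ 0 := natCast_ne_zero_of_ne (p := p) hrp
  have hss := isSemisimple_of_pow_eq_one (p := p) hrp y hy
  have hcop := isCoprime_X_sub_one_cyclotomic (F := F) (r := r) hrF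
  have hcyc := allIrrDeg_cyclotomic (F := F) (p := p) (r := r) hrp
  have h10 : (X - 1 : F[X]) ≠ 0 := by
    have := Polynomial.X_sub_C_ne_zero (1 : F)
    simpa using this
  have hX : (X - 1 : F[X]) * cyclotomic r F = X ^ r - 1 := by
    rw [mul_comm, Polynomial.cyclotomic_prime_mul_X_sub_one]
  have hpoly : aeval y (X ^ r - 1 : F[X]) = 0 := by
    rw [map_sub, map_pow, aeval_X, map_one, hy, sub_self]
  obtain ⟨t, j, h1, h2, _, _, _⟩ := finrank_inv_form hss hcop h10 (cyclotomic_ne_zero r F)
    allIrrDeg_X_sub_one hcyc hW (fun v _ => by rw [hX, hpoly]; rfl)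
  have hker : aeval y (X - 1 : F[X]) = y - 1 := by simp
  rw [hker, mul_one] at h2
  refine ⟨j, ?_⟩
  rw [h1, mul_one, h2]

end finite

end Cfsg.Agent.Lib.Helper6.EqD
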