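import Mathlib

/-! # Decompositions permuted by an operator (helper6, for S5958) -/

set_option autoImplicit false

namespace Cfsg.Agent.Lib.Helper6.EqD

open Module

variable {F V : Type*} [Field F] [AddCommGroup V] [Module F V]

/-- `D` is a direct decomposition of `M` into pieces of dimension `a`, permuted by `y` along `σ`. -/
structure Dec (y : Module.End F V) (a : ℕ) (M : Submodule F V) {ι : Type*}
    (D : ι → Submodule F V) (σ : Equiv.Perm ι) : Prop where
  finrank_eq : ∀ i, finrank F (D i) = a
  indep : iSupIndep D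
  iSup_eq : iSup D = M
  map_eq : ∀ i, (D i).map y = D (σ i)

variable {y : Module.End F V} {a : ℕ} {M : Submodule F V} {ι : Type*} {D : ι → Submodule F V}
  {σ : Equiv.Perm ι}

lemma Dec.le (h : Dec y a M D σ) (i : ι) : D i ≤ M := by
  rw [← h.iSup_eq]; exact le_iSup D i

/-- transport along a bijection of index types -/
lemma Dec.reindex {κ : Type*} (h : Dec y a M D σ) (e : ι ≃ κ) :
    Dec y a M (D ∘ e.symm) (e.permCongr σ) where
  finrank_eq k := h.finrank_eq _
  indep := h.indep.comp e.symm.injective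
  iSup_eq := by
    rw [← h.iSup_eq]
    exact e.symm.iSup_comp (g := D)
  map_eq k := by
    show (D (e.symm k)).map y = D (e.symm (e.permCongr σ k))
    rw [h.map_eq]
    simp [Equiv.permCongr_apply]

/-- a single invariant subspace -/
lemma Dec.single {W : Submodule F V} (hW : W.map y = W) :
    Dec y (finrank F W) W (fun _ : Unit => W) 1 where
  finrank_eq _ := rfl
  indep := iSupIndep_subsingleton _
  iSup_eq := by simp
  map_eq _ := by simpa using hW

/-- the empty decomposition of the zero subspace -/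
lemma Dec.empty (a : ℕ) {ι : Type*} [IsEmpty ι] (D : ι → Submodule F V) (σ : Equiv.Perm ι) :
    Dec y a ⊥ D σ where
  finrank_eq i := isEmptyElim i
  indep := iSupIndep_subsingleton _
  iSup_eq := by simp
  map_eq i := isEmptyElim i

/-- gluing decompositions of two disjoint subspaces -/
lemma Dec.glue {M₁ M₂ : Submodule F V} {κ : Type*} {E : κ → Submodule F V} {ρ : Equiv.Perm κ}
    (h1 : Dec y a M₁ D σ) (h2 : Dec y a M₂ E ρ) (hd : Disjoint M₁ M₂) :
    Dec y a (M₁ ⊔ M₂) (Sum.elim D E) (Equiv.sumCongr σ ρ) where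
  finrank_eq := by
    rintro (i | k)
    · exact h1.finrank_eq i
    · exact h2.finrank_eq k
  indep := by
    rw [iSupIndep_def]
    have key : ∀ (x : ι ⊕ κ), (⨆ (j) (_ : j ≠ x), Sum.elim D E j) =
        (⨆ (i) (_ : Sum.inl i ≠ x), D i) ⊔ (⨆ (k) (_ : Sum.inr k ≠ x), E k) := by
      intro x
      rw [iSup_sum]
      rfl
    rintro (i | k)
    · rw [key]
      have hE : (⨆ (k) (_ : (Sum.inr k : ι ⊕ κ) ≠ Sum.inl i), E k) = M₂ := by
        rw [← h2.iSup_eq]
        congr 1
        funext k
        simp
      have hD : (⨆ (i') (_ : (Sum.inl i' : ι ⊕ κ) ≠ Sum.inl i), D i') = ⨆ (i') (_ : i' ≠ i), D i' := by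
        congr 1
        funext i'
        simp
      rw [hE, hD]
      have hdis := (iSupIndep_def.mp h1.indep) i
      apply Disjoint.disjoint_sup_right_of_disjoint_sup_left hdis
      refine hd.mono_left ?_
      refine sup_le (h1.le i) ?_
      refine iSup₂_le fun i' _ => h1.le i'
    · rw [key]
      have hD : (⨆ (i) (_ : (Sum.inl i : ι ⊕ κ) ≠ Sum.inr k), D i) = M₁ := by
        rw [← h1.iSup_eq]
        congr 1
        funext i
        simp
      have hE : (⨆ (k') (_ : (Sum.inr k' : ι ⊕ κ) ≠ Sum.inr k), E k') = ⨆ (k') (_ : k' ≠ k), E k' := by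
        congr 1
        funext k'
        simp
      rw [hE, hD, sup_comm]
      have hdis := (iSupIndep_def.mp h2.indep) k
      apply Disjoint.disjoint_sup_right_of_disjoint_sup_left hdis
      refine hd.symm.mono_left ?_
      refine sup_le (h2.le k) ?_
      refine iSup₂_le fun k' _ => h2.le k'
  iSup_eq := by
    rw [iSup_sum]
    show (⨆ i, D i) ⊔ (⨆ k, E k) = _
    rw [h1.iSup_eq, h2.iSup_eq]
  map_eq := by
    rintro (i | k)
    · exact h1.map_eq i
    · exact h2.map_eq k

/-- merging two decompositions with the same index type and the same permutation -/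
lemma Dec.merge [FiniteDimensional F V] {M₁ M₂ : Submodule F V} {a₂ : ℕ} {E : ι → Submodule F V}
    (h1 : Dec y a M₁ D σ) (h2 : Dec y a₂ M₂ E σ) (hd : Disjoint M₁ M₂) :
    Dec y (a + a₂) (M₁ ⊔ M₂) (fun i => D i ⊔ E i) σ where
  finrank_eq i := by
    have hdis : Disjoint (D i) (E i) := hd.mono (h1.le i) (h2.le i)
    have := Submodule.finrank_sup_add_finrank_inf_eq (D i) (E i)
    rw [disjoint_iff.mp hdis, finrank_bot, h1.finrank_eq, h2.finrank_eq] at this
    omega
  indep := by
    rw [iSupIndep_def]
    intro i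
    have hsup : (⨆ (j) (_ : j ≠ i), (D j ⊔ E j)) =
        (⨆ (j) (_ : j ≠ i), D j) ⊔ (⨆ (j) (_ : j ≠ i), E j) := by
      simp only [iSup_sup_eq]
    rw [hsup, Submodule.disjoint_def]
    intro x hx1 hx2
    obtain ⟨d, hd1, e, he1, rfl⟩ := Submodule.mem_sup.mp hx1
    obtain ⟨d', hd', e', he', hde⟩ := Submodule.mem_sup.mp hx2
    have hD'le : (⨆ (j) (_ : j ≠ i), D j) ≤ M₁ := iSup₂_le fun j _ => h1.le j
    have hE'le : (⨆ (j) (_ : j ≠ i), E j) ≤ M₂ := iSup₂_le fun j _ => h2.le j
    have h0 : d - d' = e' - e := by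
      rw [sub_eq_sub_iff_add_eq_add, add_comm e' d']
      exact hde.symm
    have hmem1 : d - d' ∈ M₁ := M₁.sub_mem (h1.le i hd1) (hD'le hd')
    have hmem2 : d - d' ∈ M₂ := by rw [h0]; exact M₂.sub_mem (hE'le he') (h2.le i he1)
    have hz : d - d' = 0 := (Submodule.disjoint_def.mp hd) _ hmem1 hmem2
    have hz' : e' - e = 0 := by rw [← h0, hz]
    have hdd : d = d' := sub_eq_zero.mp hz
    have hee : e' = e := sub_eq_zero.mp hz'
    have hd0 : d = 0 :=
      (Submodule.disjoint_def.mp ((iSupIndep_def.mp h1.indep) i)) d hd1 (hdd ▸ hd')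
    have he0 : e = 0 :=
      (Submodule.disjoint_def.mp ((iSupIndep_def.mp h2.indep) i)) e he1 (hee ▸ he')
    rw [hd0, he0, add_zero]
  iSup_eq := by
    rw [iSup_sup_eq, h1.iSup_eq, h2.iSup_eq]
  map_eq i := by
    rw [Submodule.map_sup, h1.map_eq, h2.map_eq]

/-- dimension count -/
lemma Dec.card_mul [FiniteDimensional F V] [Fintype ι] (h : Dec y a M D σ) :
    a * Fintype.card ι = finrank F M := by
  classical
  have key : ∀ s : Finset ι, finrank F ↥(s.sup D) = a * s.card := by
    intro s
    induction s using Finset.induction_on with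
    | empty => simp
    | insert i s hi ih =>
      rw [Finset.sup_insert, Finset.card_insert_of_notMem hi]
      have hind : (insert i s).SupIndep D := h.indep.supIndep' _
      have hdis : Disjoint (D i) (s.sup D) :=
        hind (Finset.subset_insert i s) (Finset.mem_insert_self i s) hi
      have := Submodule.finrank_sup_add_finrank_inf_eq (D i) (s.sup D)
      rw [disjoint_iff.mp hdis, finrank_bot, h.finrank_eq, ih] at this
      rw [mul_add, mul_one]
      omega
  have h1 := key Finset.univ
  rw [Finset.sup_univ_eq_iSup, h.iSup_eq, Finset.card_univ] at h1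
  exact h1.symm

end Cfsg.Agent.Lib.Helper6.EqD
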