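import Cfsg.Agent.Lib.Helper6.EqD.Defs
import Cfsg.Agent.Lib.Helper6.EqD.Inv
import Cfsg.Agent.Lib.Helper80.EqD_FO3
import Cfsg.Agent.Lib.Helper80.EqD_FO8
import Cfsg.Agent.Lib.Helper2.EqD_FO7
import Cfsg.Agent.Lib.Helper2.EqD_FO4
import Cfsg.Agent.Lib.Helper49.EqD_FO2
import Cfsg.Agent.Lib.Helper25.EqD_FO1
import Cfsg.Agent.Lib.Helper97.EqD_FO5
import Cfsg.Agent.Lib.Helper2.BGMain

/-! # S5958: assembly (helper6) -/

set_option autoImplicit false

namespace Cfsg.Agent.Lib.Helper6.EqD

open Module Polynomial Cfsg.Agent.Lib.Helper2.BG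

/-- from an abstract decomposition to the statement's form -/
lemma exists_mdec_of_dec {F : Type*} [Field F] {n a t : ℕ} (hat : n = a * t) (ha : 1 ≤ a)
    (ht : 2 ≤ t) (X : Module.End F (Fin n → F))
    (h : ∃ (ι : Type) (_ : Fintype ι) (D : ι → Submodule F (Fin n → F)) (σ : Equiv.Perm ι),
      Dec X a ⊤ D σ) :
    ∃ D' : Fin t → Submodule F (Fin n → F), Cfsg.Geo.IsMDecomposition a D' ∧
      ∃ σ' : Equiv.Perm (Fin t), ∀ j, (D' j).map X = D' (σ' j) := by
  obtain ⟨ι, _, D, σ, hD⟩ := h
  have hcard : Fintype.card ι = t := by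
    have h1 := hD.card_mul
    rw [finrank_top, Module.finrank_fin_fun, hat] at h1
    exact Nat.eq_of_mul_eq_mul_left (by omega) h1
  let e : ι ≃ Fin t := Fintype.equivFinOfCardEq hcard
  have hre := hD.reindex e
  exact ⟨_, ⟨ht, ha, hre.finrank_eq, hre.indep, hre.iSup_eq⟩, _, hre.map_eq⟩

section fin
variable {F : Type*} [Field F] [Fintype F] {p : ℕ} [Fact p.Prime] [CharP F p]

lemma card_ne_zero_zmod {r : ℕ} [Fact r.Prime] (hrp : r ≠ p) :
    ((Fintype.card F : ℕ) : ZMod r) ≠ 0 := by
  have hr := (Fact.out : r.Prime)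
  have hp := (Fact.out : p.Prime)
  intro h0
  rw [ZMod.natCast_eq_zero_iff] at h0
  obtain ⟨k, _, hk⟩ := FiniteField.card F p
  rw [hk] at h0
  have := hr.dvd_of_dvd_pow h0
  exact hrp ((Nat.prime_dvd_prime_iff_eq hr hp).mp this)

lemma order_le_pred {r : ℕ} [Fact r.Prime] (hrp : r ≠ p) :
    orderOf ((Fintype.card F : ℕ) : ZMod r) ≤ r - 1 := by
  have hr := (Fact.out : r.Prime)
  apply Nat.le_of_dvd (by have := hr.two_le; omega)
  exact orderOf_dvd_of_pow_eq_one (ZMod.pow_card_sub_one_eq_one (card_ne_zero_zmod (F := F) hrp))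

lemma root_eq_one_of_order {r : ℕ} [Fact r.Prime]
    (hc2 : 2 ≤ orderOf ((Fintype.card F : ℕ) : ZMod r)) : ∀ μ : F, μ ^ r = 1 → μ = 1 := by
  have hr := (Fact.out : r.Prime)
  intro μ hμ
  have hμ0 : μ ≠ 0 := by
    rintro rfl
    rw [zero_pow hr.ne_zero] at hμ
    exact zero_ne_one hμ
  have h2 : μ ^ (Fintype.card F - 1) = 1 := FiniteField.pow_card_sub_one_eq_one μ hμ0
  have hcop : Nat.Coprime r (Fintype.card F - 1) := by
    rw [Nat.Prime.coprime_iff_not_dvd hr]
    intro hdvd
    have := (orderOf_eq_one_iff_dvd (r := r) (Fintype.card F) Fintype.card_pos).mpr hdvd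
    omega
  have := pow_gcd_eq_one.mpr ⟨hμ, h2⟩
  rwa [Nat.Coprime.gcd_eq_one hcop, pow_one] at this

end fin

section cases
variable {F V : Type*} [Field F] [Fintype F] [AddCommGroup V] [Module F V] [FiniteDimensional F V]

/-- the two ways an operator of order `r` can permute a decomposition -/
lemma dec_cases {p : ℕ} [Fact p.Prime] [CharP F p] {r : ℕ} [Fact r.Prime] (hrp : r ≠ p)
    (X : Module.End F V) (hX : X ^ r = 1) {t a : ℕ} (ha : 1 ≤ a) {D : Fin t → Submodule F V}
    {σ : Equiv.Perm (Fin t)} (hD : Dec X a ⊤ D σ) :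
    (a ≤ finrank F (LinearMap.ker (X - 1)) ∧
      (r - 1) * a + finrank F (LinearMap.ker (X - 1)) ≤ finrank F V) ∨
    (∃ f s : Fin t → ℕ, (∀ j, a = f j + s j * orderOf ((Fintype.card F : ℕ) : ZMod r)) ∧
      ∑ j, f j ≤ finrank F (LinearMap.ker (X - 1))) := by
  have hr := (Fact.out : r.Prime)
  by_cases h : ∃ j, σ j ≠ j
  · left
    obtain ⟨j, hj⟩ := h
    obtain ⟨h1, h2⟩ := finrank_bounds_of_moved X hr hX ha hD j hj
    refine ⟨h1, ?_⟩
    have := LinearMap.finrank_range_add_finrank_ker (X - 1)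
    omega
  · right
    push Not at h
    have hinv : ∀ j, Inv X (D j) := by
      intro j
      apply inv_of_map_eq
      rw [hD.map_eq, h j]
    choose s hs using fun j => finrank_inv_eq (p := p) hrp X hX (hinv j)
    refine ⟨fun j => finrank F ↥(D j ⊓ LinearMap.ker (X - 1)), s, ?_, ?_⟩
    · intro j
      rw [← hs j, hD.finrank_eq]
    · exact sum_finrank_inf_le hD.indep _

end cases

section main
variable {F : Type*} [Field F] [Fintype F] {p : ℕ} [Fact p.Prime] [CharP F p]

lemma not_scalar_of_ker_lt {n r : ℕ} (hr : 0 < r) (hroot : ∀ μ : F, μ ^ r = 1 → μ = 1)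
    (x : Matrix.SpecialLinearGroup (Fin n) F)
    (hx : ((x ^ r : Matrix.SpecialLinearGroup (Fin n) F) : Matrix (Fin n) (Fin n) F) = 1)
    (hker : finrank F (LinearMap.ker (Matrix.toLin' (x : Matrix (Fin n) (Fin n) F) - 1)) < n) :
    ∀ z : F, (x : Matrix (Fin n) (Fin n) F) ≠ z • (1 : Matrix (Fin n) (Fin n) F) := by
  intro z hz
  have hn : 0 < n := by omega
  rw [Matrix.SpecialLinearGroup.coe_pow, hz, _root_.smul_pow, one_pow] at hx
  have hzr : z ^ r = 1 := by
    have := congrFun (congrFun hx ⟨0, hn⟩) ⟨0, hn⟩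
    simpa using this
  have hz1 := hroot z hzr
  rw [hz1, one_smul] at hz
  rw [hz, Matrix.toLin'_one] at hker
  have : LinearMap.ker ((LinearMap.id : (Fin n → F) →ₗ[F] (Fin n → F)) - 1) = ⊤ := by
    have : (LinearMap.id : (Fin n → F) →ₗ[F] (Fin n → F)) - 1 = 0 := sub_self _
    rw [this, LinearMap.ker_zero]
  rw [this, finrank_top, Module.finrank_fin_fun] at hker
  omega

/-- (⇒): derangements -/
theorem exists_derangement (n a t : ℕ) (hat : n = a * t) (ha : 1 ≤ a) (ht : 2 ≤ t) (r : ℕ)
    [Fact r.Prime] (hrp : r ≠ p)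
    (hc2 : 2 ≤ orderOf ((Fintype.card F : ℕ) : ZMod r))
    (hcn : orderOf ((Fintype.card F : ℕ) : ZMod r) ≤ n)
    (hcond : ¬ ((a = 1 ∧ 1 < orderOf ((Fintype.card F : ℕ) : ZMod r) ∧
          orderOf ((Fintype.card F : ℕ) : ZMod r) = r - 1 ∧
          n ≤ (n % orderOf ((Fintype.card F : ℕ) : ZMod r)) * r) ∨
        (orderOf ((Fintype.card F : ℕ) : ZMod r) ≤ a ∧
          n % orderOf ((Fintype.card F : ℕ) : ZMod r) =
            t * (a % orderOf ((Fintype.card F : ℕ) : ZMod r))))) :
    ∃ x : Matrix.SpecialLinearGroup (Fin n) F,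
      ((x ^ r : Matrix.SpecialLinearGroup (Fin n) F) : Matrix (Fin n) (Fin n) F) = 1 ∧
      (∀ z : F, (x : Matrix (Fin n) (Fin n) F) ≠ z • (1 : Matrix (Fin n) (Fin n) F)) ∧
      ∀ (D : Fin t → Submodule F (Fin n → F)) (σ : Equiv.Perm (Fin t)),
        ¬ Dec (Matrix.toLin' (x : Matrix (Fin n) (Fin n) F)) a ⊤ D σ := by
  have hr := (Fact.out : r.Prime)
  have hroot := root_eq_one_of_order (F := F) (r := r) hc2
  have hcr := order_le_pred (F := F) (p := p) (r := r) hrp
  set c := orderOf ((Fintype.card F : ℕ) : ZMod r) with hcdef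
  have hpow : ∀ x : Matrix.SpecialLinearGroup (Fin n) F,
      ((x ^ r : Matrix.SpecialLinearGroup (Fin n) F) : Matrix (Fin n) (Fin n) F) = 1 →
      (Matrix.toLin' (x : Matrix (Fin n) (Fin n) F)) ^ r = 1 := by
    intro x hx
    have := toLin'_pow_eq x 1 (by rw [hx, one_smul])
    rw [this, map_one]
  have hdim : finrank F (Fin n → F) = n := Module.finrank_fin_fun F
  by_cases hac : a < c
  · by_cases h1 : a = 1 ∧ c = r - 1
    · -- case A2
      obtain ⟨ha1, hcr1⟩ := h1
      have hnk : ¬ n ≤ (n % c) * r := fun h => hcond (Or.inl ⟨ha1, by omega, hcr1, h⟩)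
      obtain ⟨x, hx, hker⟩ := exists_SL_with_ker (p := p) hrp hc2 n (n / c) (n % c)
        (Nat.div_add_mod' n c).symm
      refine ⟨x, hx, not_scalar_of_ker_lt hr.pos hroot x hx ?_, ?_⟩
      · rw [hker]
        exact lt_of_lt_of_le (Nat.mod_lt _ (by omega)) hcn
      · intro D σ hD
        subst ha1
        have := card_le_mul_finrank_ker _ hr (hpow x hx) hroot hD
        rw [hker, Fintype.card_fin] at this
        apply hnk
        rw [mul_comm]
        omega
    · -- case A1
      obtain ⟨x, hx, hker⟩ := exists_SL_with_ker (p := p) hrp hc2 n 1 (n - c) (by omega)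
      refine ⟨x, hx, not_scalar_of_ker_lt hr.pos hroot x hx (by rw [hker]; omega), ?_⟩
      intro D σ hD
      rcases dec_cases (p := p) hrp _ (hpow x hx) ha hD with ⟨_, h2⟩ | ⟨f, s, hfs, hsum⟩
      · rw [hker, hdim] at h2
        have h3 : (r - 1) * a ≤ r - 1 := by omega
        have ha1 : a = 1 := by
          by_contra hne
          have h4 : 2 ≤ a := by omega
          have h5 : (r - 1) * 2 ≤ (r - 1) * a := Nat.mul_le_mul_left _ h4
          have := hr.two_le
          omega
        apply h1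
        refine ⟨ha1, ?_⟩
        rw [ha1, mul_one] at h2
        omega
      · replace hfs : ∀ j, a = f j + s j * c := hfs
        have hf : ∀ j, f j = a := by
          intro j
          have hs0 : s j = 0 := by
            by_contra h
            have h6 : 1 ≤ s j := Nat.one_le_iff_ne_zero.mpr h
            have h7 : c ≤ s j * c := Nat.le_mul_of_pos_left c h6
            have := hfs j
            omega
          have := hfs j
          rw [hs0, zero_mul, add_zero] at this
          exact this.symm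
        have hsum' : ∑ j : Fin t, f j = n := by
          rw [Finset.sum_congr rfl (fun j _ => hf j), Finset.sum_const, Finset.card_univ,
            Fintype.card_fin, smul_eq_mul, hat, mul_comm]
        rw [hsum', hker] at hsum
        omega
  · -- case B
    have hca : c ≤ a := by omega
    have hk : n % c ≠ t * (a % c) := fun h => hcond (Or.inr ⟨hca, h⟩)
    obtain ⟨x, hx, hker⟩ := exists_SL_with_ker (p := p) hrp hc2 n (n / c) (n % c)
      (Nat.div_add_mod' n c).symm
    have hkc : n % c < c := Nat.mod_lt _ (by omega)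
    refine ⟨x, hx, not_scalar_of_ker_lt hr.pos hroot x hx (by rw [hker]; omega), ?_⟩
    intro D σ hD
    rcases dec_cases (p := p) hrp _ (hpow x hx) ha hD with ⟨h1, _⟩ | ⟨f, s, hfs, hsum⟩
    · rw [hker] at h1
      omega
    · replace hfs : ∀ j, a = f j + s j * c := hfs
      have hf : ∀ j, a % c ≤ f j := by
        intro j
        have h1 : a % c = f j % c := by
          conv_lhs => rw [hfs j, Nat.add_mul_mod_self_right]
        rw [h1]
        exact Nat.mod_le _ _
      have hsum' : t * (a % c) ≤ ∑ j : Fin t, f j := by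
        calc t * (a % c) = ∑ _j : Fin t, a % c := by
              rw [Finset.sum_const, Finset.card_univ, Fintype.card_fin, smul_eq_mul]
          _ ≤ ∑ j : Fin t, f j := Finset.sum_le_sum fun j _ => hf j
      rw [hker] at hsum
      apply hk
      have h1 : n % c = ((a % c) * t) % c := by
        rw [hat]
        exact ((Nat.mod_modEq a c).mul_right t).symm
      rw [h1, Nat.mod_eq_of_lt, mul_comm]
      rw [mul_comm]
      omega

/-- (⇐): every element of order `r` stabilizes a decomposition -/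
theorem stabilizes_of_cond (n a t : ℕ) (hn : 2 ≤ n) (hat : n = a * t) (ha : 1 ≤ a) (ht : 2 ≤ t)
    (r : ℕ) [Fact r.Prime] (hrp : r ≠ p)
    (hcond : (a = 1 ∧ 1 < orderOf ((Fintype.card F : ℕ) : ZMod r) ∧
          orderOf ((Fintype.card F : ℕ) : ZMod r) = r - 1 ∧
          n ≤ (n % orderOf ((Fintype.card F : ℕ) : ZMod r)) * r) ∨
        (n % orderOf ((Fintype.card F : ℕ) : ZMod r) =
            t * (a % orderOf ((Fintype.card F : ℕ) : ZMod r))))
    (x : Matrix.SpecialLinearGroup (Fin n) F) (z : F)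
    (hx : ((x ^ r : Matrix.SpecialLinearGroup (Fin n) F) : Matrix (Fin n) (Fin n) F) =
      z • (1 : Matrix (Fin n) (Fin n) F)) :
    ∃ D : Fin t → Submodule F (Fin n → F), Cfsg.Geo.IsMDecomposition a D ∧
      ∃ σ : Equiv.Perm (Fin t), ∀ j,
        (D j).map (Matrix.toLin' (x : Matrix (Fin n) (Fin n) F)) = D (σ j) := by
  have hr := (Fact.out : r.Prime)
  have hrF : (r : F) ≠ 0 := natCast_ne_zero_of_ne (p := p) hrp
  set X := Matrix.toLin' (x : Matrix (Fin n) (Fin n) F) with hXdef
  have hX : X ^ r = algebraMap F _ z := toLin'_pow_eq x z hx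
  have hz0 : z ≠ 0 := scalar_ne_zero (by omega) x z hx
  have hdim : finrank F (Fin n → F) = n := Module.finrank_fin_fun F
  apply exists_mdec_of_dec hat ha ht X
  by_cases hpow : ∃ b : F, b ^ r = z
  · obtain ⟨b, hb⟩ := hpow
    have hb0 : b ≠ 0 := by
      rintro rfl
      rw [zero_pow hr.ne_zero] at hb
      exact hz0 hb.symm
    set y : Module.End F (Fin n → F) := b⁻¹ • X with hy
    have hyr : y ^ r = 1 := by
      rw [hy, _root_.smul_pow, hX, inv_pow, hb, Algebra.algebraMap_eq_smul_one, smul_smul,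
        inv_mul_cancel₀ hz0, one_smul]
    have hXy : X = b • y := by
      rw [hy, smul_smul, mul_inv_cancel₀ hb0, one_smul]
    have hconv : ∀ {ι : Type} {D : ι → Submodule F (Fin n → F)} {σ : Equiv.Perm ι} {a' : ℕ},
        Dec y a' ⊤ D σ → Dec X a' ⊤ D σ := by
      intro ι D σ a' h
      refine ⟨h.finrank_eq, h.indep, h.iSup_eq, fun i => ?_⟩
      rw [hXy, Submodule.map_smul y (D i) b hb0, h.map_eq]
    rcases hcond with ⟨ha1, hc1, hcr, hnk⟩ | hmod
    · subst ha1
      obtain ⟨ι, hι, D, σ, hD⟩ := exists_dec_lines (p := p) hrp y hyr hcr (by omega)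
        (by rw [hdim, ← hcr]; exact hnk)
      exact ⟨ι, hι, D, σ, hconv hD⟩
    · obtain ⟨D, hD⟩ := exists_dec_invariant (p := p) hrp y hyr a ha t ⊤ (inv_top y)
        (by rw [finrank_top, hdim, hat]) (by rw [← hat]; exact hmod)
      exact ⟨Fin t, inferInstance, D, 1, hconv hD⟩
  · push Not at hpow
    exact exists_dec_not_pow hrF z hpow X hX a t ha (hdim.trans hat)

end main

end Cfsg.Agent.Lib.Helper6.EqD
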